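import Mathlib

/-!
Linear maps on bit strings of length twelve, given by the images of the unit strings.
-/

set_option autoImplicit false

namespace Cfsg.Agent.Lib.G2Natural

/-- Bit strings of length twelve, added bitwise. -/
structure Bit12 where
  /-- The string as a number. -/
  code : Fin 4096
deriving DecidableEq

/-- The numbering. -/
def bit12Equiv : Bit12 ≃ Fin 4096 := ⟨Bit12.code, Bit12.mk, fun _ => rfl, fun _ => rfl⟩

instance bit12Fintype : Fintype Bit12 := Fintype.ofEquiv (Fin 4096) bit12Equiv.symm

/-- The string with a number. -/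
def bit12 (n : ℕ) : Bit12 := ⟨Fin.ofNat 4096 n⟩

theorem bit12_code {n : ℕ} (hn : n < 4096) : (bit12 n).code.val = n := by
  simp [bit12, Fin.ofNat, Nat.mod_eq_of_lt hn]

theorem bit12_ext {a b : Bit12} (h : a.code.val = b.code.val) : a = b := by
  cases a; cases b; congr 1; exact Fin.ext h

theorem xor_lt_bound {a b : ℕ} (ha : a < 4096) (hb : b < 4096) : a ^^^ b < 4096 :=
  Nat.xor_lt_two_pow (n := 12) ha hb

instance bit12Zero : Zero Bit12 := ⟨⟨0⟩⟩
instance bit12Add : Add Bit12 :=
  ⟨fun a b => ⟨⟨a.code.val ^^^ b.code.val, xor_lt_bound a.code.isLt b.code.isLt⟩⟩⟩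
instance bit12Neg : Neg Bit12 := ⟨id⟩

instance bit12Group : AddCommGroup Bit12 where
  nsmul := nsmulRec
  zsmul := zsmulRec
  add_assoc a b c := bit12_ext (Nat.xor_assoc _ _ _)
  zero_add a := bit12_ext (Nat.zero_xor _)
  add_zero a := bit12_ext (Nat.xor_zero _)
  neg_add_cancel a := bit12_ext (Nat.xor_self _)
  add_comm a b := bit12_ext (Nat.xor_comm _ _)

theorem bit12_add_code (a b : Bit12) : (a + b).code.val = a.code.val ^^^ b.code.val := rfl

theorem two_nsmul_bit12 (a : Bit12) : 2 • a = 0 := by
  rw [two_nsmul]; exact bit12_ext (Nat.xor_self _)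

/-- The value at `v` of the linear map with images `L` of the unit strings. -/
def bitApply : List ℕ → ℕ → ℕ
  | [], _ => 0
  | x :: L, v => x * (v % 2) ^^^ bitApply L (v / 2)

theorem bitApply_xor : ∀ (L : List ℕ) (v w : ℕ), bitApply L (v ^^^ w) = bitApply L v ^^^ bitApply L w
  | [], v, w => by simp [bitApply]
  | x :: L, v, w => by
    have e1 : (v ^^^ w) / 2 = v / 2 ^^^ w / 2 := by
      simp only [← Nat.shiftRight_one, Nat.shiftRight_xor_distrib]
    have e2 : x * ((v ^^^ w) % 2) = x * (v % 2) ^^^ x * (w % 2) := by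
      have h := Nat.xor_mod_two_pow (a := v) (b := w) (n := 1)
      rw [pow_one] at h
      rw [h]
      rcases Nat.mod_two_eq_zero_or_one v with hv | hv <;>
        rcases Nat.mod_two_eq_zero_or_one w with hw | hw <;> simp [hv, hw]
    rw [bitApply, bitApply, bitApply, e1, bitApply_xor L, e2, Nat.xor_assoc, Nat.xor_assoc]
    ac_rfl

theorem bitApply_zero : ∀ L : List ℕ, bitApply L 0 = 0
  | [] => rfl
  | x :: L => by simp [bitApply, bitApply_zero L]

/-- The composite map. -/
def bitComp (A B : List ℕ) : List ℕ := B.map (bitApply A)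

theorem bitApply_bitComp (A : List ℕ) : ∀ (B : List ℕ) (v : ℕ),
    bitApply (bitComp A B) v = bitApply A (bitApply B v)
  | [], v => by simp [bitComp, bitApply, bitApply_zero]
  | x :: B, v => by
    show bitApply A x * (v % 2) ^^^ bitApply (bitComp A B) (v / 2) = _
    rw [bitApply, bitApply_xor, bitApply_bitComp A B]
    rcases Nat.mod_two_eq_zero_or_one v with hv | hv <;> simp [hv, bitApply_zero]

/-- The unit strings. -/
def bitId : List ℕ := [1, 2, 4, 8, 16, 32, 64, 128, 256, 512, 1024, 2048]

theorem bitApply_bitId (v : ℕ) (hv : v < 4096) : bitApply bitId v = v := by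
  have h : ∀ a < 64, ∀ b < 64, bitApply bitId (a + 64 * b) = a + 64 * b := by decide +kernel
  have := h (v % 64) (Nat.mod_lt _ (by norm_num)) (v / 64) (by omega)
  rwa [Nat.mod_add_div] at this

/-- The endomorphism of a list. -/
def bitEnd (L : List ℕ) : AddMonoid.End Bit12 where
  toFun a := bit12 (bitApply L a.code.val)
  map_zero' := by
    refine bit12_ext ?_
    show (bit12 (bitApply L 0)).code.val = 0
    rw [bitApply_zero]; rfl
  map_add' a b := by
    refine bit12_ext ?_
    simp only [bit12_add_code, bitApply_xor, bit12, Fin.val_ofNat]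
    exact Nat.xor_mod_two_pow (n := 12)

/-- All images are strings of length twelve. -/
def BitBounded (L : List ℕ) : Prop := ∀ x ∈ L, x < 4096

theorem bitApply_lt : ∀ (L : List ℕ), BitBounded L → ∀ v, bitApply L v < 4096
  | [], _, _ => by simp [bitApply]
  | x :: L, h, v => by
    rw [bitApply]
    refine xor_lt_bound ?_ (bitApply_lt L (fun y hy => h y (List.mem_cons_of_mem _ hy)) _)
    have := h x List.mem_cons_self
    rcases Nat.mod_two_eq_zero_or_one v with hv | hv <;> simp [hv, this]

theorem bitBounded_comp {A B : List ℕ} (hA : BitBounded A) : BitBounded (bitComp A B) := by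
  intro x hx
  obtain ⟨y, -, rfl⟩ := List.mem_map.1 hx
  exact bitApply_lt A hA y

theorem bitEnd_code {L : List ℕ} (hL : BitBounded L) (a : Bit12) :
    (bitEnd L a).code.val = bitApply L a.code.val := bit12_code (bitApply_lt L hL _)

theorem bitEnd_comp {A B : List ℕ} (hB : BitBounded B) :
    bitEnd (bitComp A B) = bitEnd A * bitEnd B := by
  refine AddMonoidHom.ext fun a => ?_
  show bit12 (bitApply (bitComp A B) a.code.val) = bit12 (bitApply A (bitEnd B a).code.val)
  rw [bitEnd_code hB, bitApply_bitComp]

theorem bitEnd_id : bitEnd bitId = 1 := by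
  refine AddMonoidHom.ext fun a => bit12_ext ?_
  show (bit12 (bitApply bitId a.code.val)).code.val = a.code.val
  rw [bitApply_bitId _ a.code.isLt, bit12_code a.code.isLt]

end Cfsg.Agent.Lib.G2Natural
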