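import Cfsg.Agent.Lib.G2Natural.Rep

/-!
The six-dimensional module of the Steinberg group of type G2 over the field with four elements.
-/

set_option autoImplicit false

namespace Cfsg.Agent.Lib.G2Natural

open Cfsg.Agent.Lib.Golay (Quad)

theorem sixX_bounded (r : ℕ) (t : Quad) : BitBounded (sixX r t) := by
  by_cases hr : r < 12
  · exact six_bounded r hr t
  · have : sixX r t = bitId := by
      have : sixTable.length ≤ r := by simp [sixTable]; omega
      simp [sixX, List.getD, List.getElem?_eq_none this]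
    rw [this]
    unfold BitBounded bitId
    simp

theorem sixWord_bounded : ∀ w : List (ℕ × Quad), BitBounded (sixWord w)
  | [] => by unfold BitBounded sixWord bitId; simp
  | p :: w => bitBounded_comp (sixX_bounded p.1 p.2)

theorem sixX_eq_id {r : ℕ} (hr : ¬ r < 12) (t : Quad) : sixX r t = bitId := by
  have : sixTable.length ≤ r := by simp [sixTable]; omega
  simp [sixX, List.getD, List.getElem?_eq_none this]

theorem bitEnd_sixWord_cons (p : ℕ × Quad) (w : List (ℕ × Quad)) :
    bitEnd (sixWord (p :: w)) = bitEnd (sixX p.1 p.2) * bitEnd (sixWord w) :=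
  bitEnd_comp (sixWord_bounded w)

theorem bitEnd_sixWord : ∀ w : List (ℕ × Quad),
    bitEnd (sixWord w) = (w.map fun p => bitEnd (sixX p.1 p.2)).prod
  | [] => by rw [sixWord, bitEnd_id]; rfl
  | p :: w => by rw [bitEnd_sixWord_cons, bitEnd_sixWord w, List.map_cons, List.prod_cons]

theorem sixX_sq (r : ℕ) (t : Quad) : bitEnd (sixX r t) * bitEnd (sixX r t) = 1 := by
  by_cases hr : r < 12
  · have h := congrArg bitEnd (six_relA r hr t t).2
    rw [bitEnd_sixWord, bitEnd_id] at h
    simpa using h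
  · rw [sixX_eq_id hr, bitEnd_id, one_mul]

/-- A root element as an automorphism. -/
def sixUnit (r : ℕ) (t : Quad) : (AddMonoid.End Bit12)ˣ :=
  ⟨bitEnd (sixX r t), bitEnd (sixX r t), sixX_sq r t, sixX_sq r t⟩

theorem lift_stWord (w : List (ℕ × Quad)) :
    ((FreeGroup.lift (fun p : Fin Cfsg.Lie.chevG2.nroots × Quad => sixUnit p.1 p.2)
      (Cfsg.Lie.chevG2.stWord w) : (AddMonoid.End Bit12)ˣ) : AddMonoid.End Bit12) = bitEnd (sixWord w) := by
  induction w with
  | nil => simp [Cfsg.Lie.ChevalleyDatum.stWord, sixWord, bitEnd_id]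
  | cons p w ih =>
    rw [bitEnd_sixWord_cons, ← ih]
    show ((FreeGroup.lift _ (Cfsg.Lie.chevG2.stX p.1 p.2 * Cfsg.Lie.chevG2.stWord w) :
      (AddMonoid.End Bit12)ˣ) : AddMonoid.End Bit12) = _
    rw [map_mul, Units.val_mul]
    congr 1
    unfold Cfsg.Lie.ChevalleyDatum.stX
    split_ifs with h
    · rw [FreeGroup.lift_apply_of]; rfl
    · rw [map_one, sixX_eq_id (fun h' => h h'), bitEnd_id]; rfl

theorem stX_eq_stWord (r : ℕ) (t : Quad) :
    Cfsg.Lie.chevG2.stX r t = Cfsg.Lie.chevG2.stWord [(r, t)] := by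
  simp [Cfsg.Lie.ChevalleyDatum.stWord]

theorem six_rels : ∀ g ∈ Cfsg.Lie.chevG2.steinbergRels Quad,
    FreeGroup.lift (fun p : Fin Cfsg.Lie.chevG2.nroots × Quad => sixUnit p.1 p.2) g = 1 := by
  have hn : Cfsg.Lie.chevG2.nroots = 12 := rfl
  rintro g ((⟨r, t₁, t₂, hr, rfl⟩ | ⟨r, s, t, u, hr, hs, h1, h2, rfl⟩) | ⟨r, t₁, t₂, hr, h1, h2, rfl⟩)
  · have h := congrArg bitEnd (six_relA r (hn ▸ hr) t₁ t₂).1
    rw [map_mul, map_inv, mul_inv_eq_one, map_mul]
    refine Units.ext ?_
    rw [Units.val_mul, stX_eq_stWord, stX_eq_stWord r t₂, stX_eq_stWord r (t₁ + t₂), lift_stWord,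
      lift_stWord, lift_stWord, ← h, bitEnd_sixWord, bitEnd_sixWord, bitEnd_sixWord]
    simp
  · have h := congrArg bitEnd (six_relB r (hn ▸ hr) s (hn ▸ hs) h1 h2 t u)
    have hinv : ∀ r' t', (FreeGroup.lift (fun p : Fin Cfsg.Lie.chevG2.nroots × Quad => sixUnit p.1 p.2)
        (Cfsg.Lie.chevG2.stX r' t'))⁻¹ = FreeGroup.lift (fun p => sixUnit p.1 p.2)
        (Cfsg.Lie.chevG2.stX r' t') := by
      intro r' t'
      refine inv_eq_of_mul_eq_one_right (Units.ext ?_)
      rw [Units.val_mul, stX_eq_stWord, lift_stWord, bitEnd_sixWord]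
      simpa using sixX_sq r' t'
    rw [map_mul, map_inv, mul_inv_eq_one, map_mul, map_mul, map_mul, map_inv, map_inv, hinv, hinv]
    refine Units.ext ?_
    rw [Units.val_mul, Units.val_mul, Units.val_mul, lift_stWord, ← h, stX_eq_stWord, stX_eq_stWord r t,
      lift_stWord, lift_stWord, bitEnd_sixWord, bitEnd_sixWord, bitEnd_sixWord]
    simp [mul_assoc]
  · have h := congrArg bitEnd (six_relC r (hn ▸ hr) t₁ t₂ h1 h2)
    rw [map_mul, map_inv, mul_inv_eq_one, map_mul]
    refine Units.ext ?_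
    simp only [Cfsg.Lie.ChevalleyDatum.stH]
    rw [Units.val_mul, lift_stWord, lift_stWord, lift_stWord, ← h, bitEnd_sixWord, bitEnd_sixWord,
      bitEnd_sixWord, List.map_append, List.prod_append]

/-- The module of the Steinberg group. -/
def sixHom : Cfsg.Lie.chevG2.SteinbergGroup Quad →* AddMonoid.End Bit12 :=
  (Units.coeHom _).comp (PresentedGroup.toGroup six_rels)

/-- The element given by a word. -/
def stElt (w : List (ℕ × Quad)) : Cfsg.Lie.chevG2.SteinbergGroup Quad :=
  PresentedGroup.mk _ (Cfsg.Lie.chevG2.stWord w)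

theorem sixHom_stElt (w : List (ℕ × Quad)) : sixHom (stElt w) = bitEnd (sixWord w) := lift_stWord w

theorem stElt_append (v w : List (ℕ × Quad)) : stElt (v ++ w) = stElt v * stElt w := by
  rw [stElt, stElt, stElt, ← map_mul]
  simp [Cfsg.Lie.ChevalleyDatum.stWord]

end Cfsg.Agent.Lib.G2Natural
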