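import Cfsg.Agent.Lib.G2Natural.Hom
import Cfsg.Agent.Lib.Schur.ChevTorusCert

/-!
The six-dimensional module of the Chevalley group of type G2 over the field with four elements, by
the rigidity of lifts of the root elements.
-/

set_option autoImplicit false

namespace Cfsg.Agent.Lib.G2Natural

open Cfsg.Agent.Lib.Golay (Quad)
open Cfsg.Agent.Lib.Chev Cfsg.Agent.Lib.Schur.ChevLift

local notation "D" => Cfsg.Lie.chevG2

/-- The parameter of a root element conjugated by `n_i(c)`. -/
def permVal (i : ℕ) (c : Quadˣ) (s : ℕ) (t : Quad) : Quad :=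
  ((c ^ (D).cartan i (refl G2.cert i s) : Quadˣ) : Quad) * ((eta G2.cert i s : Quad) * t)

/-- The parameter, computed with exponents reduced modulo three. -/
def permEval (i : ℕ) (c : Quad) (s : ℕ) (t : Quad) : Quad :=
  c ^ (((D).cartan i (refl G2.cert i s)) % 3).toNat * t

theorem quad_cube : ∀ c : Quad, c ≠ 0 → c ^ 3 = 1 := by decide +kernel

theorem quad_neg_one : (-1 : Quad) = 1 := by decide +kernel

theorem permVal_eq (i : ℕ) (c : Quadˣ) (s : ℕ) (t : Quad) : permVal i c s t = permEval i (c : Quad) s t := by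
  have h3 : c ^ (3 : ℕ) = 1 := Units.ext (by rw [Units.val_pow_eq_pow_val]; exact quad_cube _ c.ne_zero)
  have he : (eta G2.cert i s : Quad) = 1 := by
    rcases eta_cases (C := G2.cert) i s with h | h <;> rw [h] <;> simp [quad_neg_one]
  set z := (D).cartan i (refl G2.cert i s)
  have hz : c ^ z = c ^ (z % 3).toNat := by
    conv_lhs => rw [← Int.emod_add_mul_ediv z 3]
    rw [zpow_add, zpow_mul, zpow_ofNat, h3, one_zpow, mul_one, ← zpow_natCast,
      Int.toNat_of_nonneg (Int.emod_nonneg _ (by norm_num))]
  rw [permVal, permEval, hz, he, one_mul, Units.val_pow_eq_pow_val]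

set_option maxRecDepth 20000 in
theorem six_permutes : ∀ (i : Fin 2) (c : Quad), c ≠ 0 → ∀ (s : Fin 12) (t : Quad),
    sixWord [((D).simple i.val, c), (ng D ((D).simple i.val), -c⁻¹), ((D).simple i.val, c), (s.val, t)] =
      sixWord [(refl G2.cert i.val s.val, permEval i.val c s.val t), ((D).simple i.val, c),
        (ng D ((D).simple i.val), -c⁻¹), ((D).simple i.val, c)] := by
  decide +kernel

/-- Pairs of a transformation of bit strings and a matrix. -/
abbrev PairT : Type := (AddMonoid.End Bit12)ˣ × GL (D).Idx Quad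

/-- The pair of a root element. -/
noncomputable def pairX (r : ℕ) (t : Quad) : (AddMonoid.End Bit12)ˣ × GL (D).Idx Quad :=
  (sixUnit r t, if h : r < (D).nroots then xGL checked_G2 Quad h t else 1)

theorem six_val (r : ℕ) (t : Quad) :
    ((pairX r t).1 : AddMonoid.End Bit12) = bitEnd (sixX r t) := rfl

theorem pairX_snd {r : ℕ} (hr : r < (D).nroots) (t : Quad) :
    (((pairX r t).2 : GL (D).Idx Quad) : Matrix (D).Idx (D).Idx Quad) = (D).x Quad r t := by
  rw [pairX, dif_pos hr, coe_xGL]

theorem wordX_fst : ∀ w : List (ℕ × Quad),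
    (((wordX pairX w).1 : (AddMonoid.End Bit12)ˣ) : AddMonoid.End Bit12) = bitEnd (sixWord w)
  | [] => by simp [wordX, sixWord, bitEnd_id]
  | p :: w => by
    rw [bitEnd_sixWord_cons, ← wordX_fst w, ← six_val]
    simp [wordX]

theorem wordX_snd : ∀ w : List (ℕ × Quad), (∀ x ∈ w, x.1 < (D).nroots) →
    (((wordX pairX w).2 : GL (D).Idx Quad) : Matrix (D).Idx (D).Idx Quad) = (D).wordMat Quad w
  | [], _ => by simp [wordX, Cfsg.Lie.ChevalleyDatum.wordMat]
  | x :: w, hw => by
    have ih := wordX_snd w fun a ha => hw a (List.mem_cons_of_mem _ ha)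
    simp only [wordX, Cfsg.Lie.ChevalleyDatum.wordMat, List.map_cons, List.prod_cons] at ih ⊢
    rw [Prod.snd_mul, Units.val_mul, pairX_snd (hw x List.mem_cons_self), ih]

theorem commWord_lt {r s : ℕ} (hr : r < (D).nroots) (hs : s < (D).nroots) (t u : Quad) :
    ∀ x ∈ (D).commWord Quad r s t u, x.1 < (D).nroots := by
  intro x hx
  rw [Cfsg.Lie.ChevalleyDatum.commWord, List.mem_map] at hx
  obtain ⟨c, hc, rfl⟩ := hx
  rw [checked_G2.commTerms_eq hr hs] at hc
  exact checked_G2.cTerms_lt hr hs c hc

/-- The pairs generate the graph of the representation. -/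
noncomputable def pairGroup : Subgroup ((AddMonoid.End Bit12)ˣ × GL (D).Idx Quad) :=
  genX pairX {r | r < (D).nroots}

/-- A root element of the graph. -/
noncomputable def graphX (r : ℕ) (t : Quad) : ↥pairGroup :=
  if h : r < (D).nroots then ⟨pairX r t, X_mem_genX pairX (S := {r | r < (D).nroots}) (r := r) h t⟩ else 1

theorem graphX_val {r : ℕ} (hr : r < (D).nroots) (t : Quad) : (graphX r t : PairT) = pairX r t := by
  rw [graphX, dif_pos hr]

theorem wordX_val : ∀ w : List (ℕ × Quad), (∀ x ∈ w, x.1 < (D).nroots) →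
    ((wordX graphX w : ↥pairGroup) : PairT) = wordX pairX w
  | [], _ => rfl
  | x :: w, hw => by
    have ih := wordX_val w fun a ha => hw a (List.mem_cons_of_mem _ ha)
    simp only [wordX, List.map_cons, List.prod_cons] at ih ⊢
    rw [Subgroup.coe_mul, graphX_val (hw x List.mem_cons_self), ih]

/-- The projection of the graph to the Chevalley group. -/
noncomputable def graphProj : ↥pairGroup →* GL (D).Idx Quad :=
  (MonoidHom.snd _ _).comp pairGroup.subtype

theorem pair_ext {a b : (AddMonoid.End Bit12)ˣ × GL (D).Idx Quad}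
    (h1 : (a.1 : AddMonoid.End Bit12) = (b.1 : AddMonoid.End Bit12))
    (h2 : (a.2 : Matrix (D).Idx (D).Idx Quad) = (b.2 : Matrix (D).Idx (D).Idx Quad)) : a = b :=
  Prod.ext (Units.ext h1) (Units.ext h2)

theorem rootLift : RootLift D G2.cert graphProj graphX where
  rooted := torusOK_G2.rooted
  eta_simple := torusOK_G2.eta_simple
  map_X r hr t := by
    show (((graphX r t : PairT).2 : GL (D).Idx Quad) : Matrix (D).Idx (D).Idx Quad) = _
    rw [graphX_val hr, pairX_snd hr]
  add r hr t u := by
    refine Subtype.ext (pair_ext ?_ ?_)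
    · simp only [Subgroup.coe_mul, Prod.fst_mul, Units.val_mul, graphX_val hr, six_val]
      have h := congrArg bitEnd (six_relA r hr t u).1
      simpa [bitEnd_sixWord] using h
    · simp only [Subgroup.coe_mul, Prod.snd_mul, Units.val_mul, graphX_val hr, pairX_snd hr]
      exact checked_G2.x_add hr t u
  comm r hr s hs h1 h2 t u := by
    have hl := commWord_lt hr hs t u
    refine Subtype.ext (pair_ext ?_ ?_)
    · simp only [Subgroup.coe_mul, Prod.fst_mul, Units.val_mul, graphX_val hr, graphX_val hs, six_val,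
        wordX_val _ hl, wordX_fst]
      have h := congrArg bitEnd (six_relB r hr s hs h1
        (by rwa [checked_G2.neg_eq hr]) t u)
      simp only [bitEnd_sixWord, List.map_cons, List.map_nil, List.prod_cons, List.prod_nil, mul_one] at h
      rw [bitEnd_sixWord, ← h]
      simp only [← mul_assoc]
      rw [mul_assoc _ (bitEnd (sixX s u)) (bitEnd (sixX s u)), sixX_sq, mul_one, sixX_sq, one_mul]
    · simp only [Subgroup.coe_mul, Prod.snd_mul, Units.val_mul, graphX_val hr, graphX_val hs,
        pairX_snd hr, pairX_snd hs, wordX_val _ hl, wordX_snd _ hl]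
      exact checked_G2.commutator_formula hr hs h1 h2 t u
  permutes i hi c hc0 s hs t := by
    have hc := checked_G2
    have hp := hc.simple_lt hi
    have hm : ng D ((D).simple i) < (D).nroots := Checked.ng_lt hp
    have hs' := hc.refl_lt hi hs
    lift c to Quadˣ using isUnit_iff_ne_zero.2 hc0
    refine ⟨permVal i c s t, mul_inv_eq_iff_eq_mul.2 (Subtype.ext (pair_ext ?_ ?_))⟩
    · simp only [nX, wordX, List.map_cons, List.map_nil, List.prod_cons, List.prod_nil, mul_one,
        Subgroup.coe_mul, Prod.fst_mul, Units.val_mul, graphX_val hp, graphX_val hm, graphX_val hs,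
        graphX_val hs', six_val, permVal_eq]
      have h := congrArg bitEnd (six_permutes ⟨i, hi⟩ (c : Quad) c.ne_zero ⟨s, hs⟩ t)
      simp only [bitEnd_sixWord, List.map_cons, List.map_nil, List.prod_cons, List.prod_nil, mul_one] at h
      simpa [mul_assoc] using h
    · have hn : ((((nX D graphX i (c : Quad) : ↥pairGroup) : PairT).2 : GL (D).Idx Quad) : Matrix (D).Idx (D).Idx Quad) =
          powDiag D (c : Quad) (fun a => (D).cartan i a) * (D).nMat Quad ((D).simple i) 1 := by
        rw [← hc.nMat_simple_eq hi]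
        simp [nX, wordX, graphX_val hp, graphX_val hm, pairX_snd hp, pairX_snd hm,
          Cfsg.Lie.ChevalleyDatum.nMat, Cfsg.Lie.ChevalleyDatum.nWord, Cfsg.Lie.ChevalleyDatum.wordMat,
          hc.neg_eq hp]
      simp only [Subgroup.coe_mul, Prod.snd_mul, Units.val_mul, hn, graphX_val hs, graphX_val hs',
        pairX_snd hs, pairX_snd hs']
      rw [mul_assoc, hc.nMat_mul_x hi hs, ← mul_assoc, powDiag_eq_charDiag,
        hc.charDiag_mul_x_of_eq _ hs' _ (fun a ha => hc.chiOf_cartan hi c ha), mul_assoc]
      rfl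

theorem genX_graph : genX graphX {r | r < (D).nroots} = ⊤ := by
  refine eq_top_iff.2 fun g _ => ?_
  suffices ∀ a (ha : a ∈ pairGroup), (⟨a, ha⟩ : ↥pairGroup) ∈ genX graphX {r | r < (D).nroots} from
    this g.1 g.2
  intro a ha
  induction ha using Subgroup.closure_induction with
  | mem x hx =>
    obtain ⟨r, hr, t, rfl⟩ := hx
    have e : (⟨pairX r t, X_mem_genX pairX (S := {r | r < (D).nroots}) hr t⟩ : ↥pairGroup) = graphX r t :=
      Subtype.ext (graphX_val hr t).symm
    rw [e]
    exact X_mem_genX graphX hr t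
  | one => exact one_mem _
  | mul x y hx hy ihx ihy => exact mul_mem ihx ihy
  | inv x hx ih => exact inv_mem ih

theorem graphProj_injective : Function.Injective graphProj := by
  obtain ⟨hfin, hle⟩ := rootLift.card_ker_le_of_mul genX_graph
    (rootLift.hX_mul_all_two genX_graph adjTwo_G2)
  have h1 := hle.trans (card_cartanKer_le (F := Quad) solve_G2)
  rw [Nat.gcd_one_right] at h1
  exact (MonoidHom.ker_eq_bot_iff _).1 (Subgroup.eq_bot_of_card_le _ h1)

theorem graphProj_range : graphProj.range = (D).group Quad := by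
  refine le_antisymm ?_ ((Subgroup.closure_le _).2 ?_)
  · rintro _ ⟨g, rfl⟩
    have hg : g ∈ genX graphX {r | r < (D).nroots} := genX_graph ▸ Subgroup.mem_top g
    induction hg using Subgroup.closure_induction with
    | mem x hx =>
      obtain ⟨r, hr, t, rfl⟩ := hx
      refine Subgroup.subset_closure ⟨⟨r, hr⟩, t, ?_⟩
      rw [rootLift.map_X r hr, Cfsg.Lie.ChevalleyDatum.x, dif_pos (show r < (D).nroots from hr)]
    | one => rw [map_one]; exact one_mem _
    | mul x y hx hy ihx ihy => rw [map_mul]; exact mul_mem ihx ihy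
    | inv x hx ih => rw [map_inv]; exact inv_mem ih
  · rintro x ⟨r, t, hx⟩
    refine ⟨graphX r.val t, Units.ext ?_⟩
    rw [hx, rootLift.map_X r.val r.isLt, Cfsg.Lie.ChevalleyDatum.x, dif_pos r.isLt]

/-- The Chevalley group acts on bit strings of length twelve, words acting as their images. -/
theorem exists_act : ∃ act : ↥((D).group Quad) →* AddMonoid.End Bit12,
    ∀ w : List (ℕ × Quad), ∃ s, act s = bitEnd (sixWord w) := by
  let e : ↥pairGroup ≃* ↥((D).group Quad) :=
    (MonoidHom.ofInjective graphProj_injective).trans (MulEquiv.subgroupCongr graphProj_range)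
  refine ⟨((Units.coeHom _).comp ((MonoidHom.fst _ _).comp pairGroup.subtype)).comp e.symm.toMonoidHom,
    fun w => ?_⟩
  induction w with
  | nil => exact ⟨1, by rw [map_one, sixWord, bitEnd_id]⟩
  | cons p w ih =>
    obtain ⟨s, hs⟩ := ih
    refine ⟨e (graphX p.1 p.2) * s, ?_⟩
    rw [map_mul, hs, bitEnd_sixWord_cons]
    congr 1
    simp only [MonoidHom.coe_comp, Function.comp_apply, MulEquiv.coe_toMonoidHom, MulEquiv.symm_apply_apply,
      Subgroup.coe_subtype, MonoidHom.coe_fst, Units.coeHom_apply]
    by_cases hr : p.1 < (D).nroots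
    · rw [graphX_val hr, six_val]
    · rw [graphX, dif_neg hr, Subgroup.coe_one, Prod.fst_one, Units.val_one, sixX_eq_id (fun h => hr h),
        bitEnd_id]

end Cfsg.Agent.Lib.G2Natural
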