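import Cfsg.Agent.Lib.G2Natural.Hom
import Cfsg.Agent.Lib.PrimeGraph.ModuleExtension

/-!
Unbounded groups with the prime graph of a group of order `|G2(4)|` acting on bit strings of length
twelve as the root elements of type G2 over the field with four elements do.
-/

set_option autoImplicit false

namespace Cfsg.Agent.Lib.G2Natural

open Cfsg.Agent.Lib.Golay (Quad)

set_option maxRecDepth 20000 in
theorem word_orders :
    (sixWord (wordSix ++ wordSix) ≠ bitId ∧ sixWord (wordSix ++ wordSix ++ wordSix) ≠ bitId ∧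
      sixWord (List.replicate 6 wordSix).flatten = bitId) ∧
    (sixWord (wordTen ++ wordTen) ≠ bitId ∧ sixWord (List.replicate 5 wordTen).flatten ≠ bitId ∧
      sixWord (List.replicate 10 wordTen).flatten = bitId) ∧
    sixWord (List.replicate 7 wordSeven).flatten = bitId ∧
    sixWord (List.replicate 13 wordThirteen).flatten = bitId := by
  decide +kernel

theorem stElt_pow (w : List (ℕ × Quad)) : ∀ n : ℕ, stElt w ^ n = stElt (List.replicate n w).flatten
  | 0 => by simp [stElt, Cfsg.Lie.ChevalleyDatum.stWord]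
  | n + 1 => by rw [pow_succ', stElt_pow w n, List.replicate_succ, List.flatten_cons, stElt_append]

theorem sixHom_pow (w : List (ℕ × Quad)) (n : ℕ) :
    sixHom (stElt w) ^ n = bitEnd (sixWord (List.replicate n w).flatten) := by
  rw [← map_pow, stElt_pow, sixHom_stElt]

theorem bitEnd_inj {A B : List ℕ} (hA : BitBounded A) (hB : BitBounded B) (hlA : A.length = 12)
    (hlB : B.length = 12) (h : bitEnd A = bitEnd B) : A = B := by
  refine List.ext_getElem (hlA.trans hlB.symm) fun i hi hi' => ?_
  have hpow : ∀ (L : List ℕ) (j : ℕ) (hj : j < L.length), bitApply L (2 ^ j) = L[j] := by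
    intro L
    induction L with
    | nil => intro j hj; simp at hj
    | cons x L ih =>
      intro j hj
      rcases j with _ | j
      · simp [bitApply, bitApply_zero]
      · rw [bitApply, pow_succ, Nat.mul_mod_left, mul_zero, Nat.zero_xor,
          Nat.mul_div_cancel _ two_pos, List.getElem_cons_succ]
        exact ih j (by simpa using hj)
  have hlt : 2 ^ i < 4096 := by
    rw [show (4096 : ℕ) = 2 ^ 12 by norm_num]
    exact Nat.pow_lt_pow_right (by norm_num) (hlA ▸ hi)
  have e := congrArg (fun a : Bit12 => a.code.val) (DFunLike.congr_fun h (bit12 (2 ^ i)))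
  simp only [bitEnd_code hA, bitEnd_code hB, bit12_code hlt] at e
  rwa [hpow A i hi, hpow B i hi'] at e

theorem sixX_length (r : ℕ) (t : Quad) : (sixX r t).length = 12 := by
  by_cases hr : r < 12
  · have h : ∀ r < 12, ∀ t : Quad, (sixX r t).length = 12 := by decide +kernel
    exact h r hr t
  · rw [sixX_eq_id hr]; rfl

theorem sixWord_length : ∀ w : List (ℕ × Quad), (sixWord w).length = 12
  | [] => rfl
  | p :: w => by rw [sixWord, bitComp, List.length_map, sixWord_length w]

theorem sixHom_pow_ne (w : List (ℕ × Quad)) (n : ℕ) (h : sixWord (List.replicate n w).flatten ≠ bitId) :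
    sixHom (stElt w) ^ n ≠ 1 := by
  rw [sixHom_pow, ← bitEnd_id]
  exact fun e => h (bitEnd_inj (sixWord_bounded _) (sixWord_bounded []) (sixWord_length _) rfl e)

theorem sixHom_pow_eq (w : List (ℕ × Quad)) (n : ℕ) (h : sixWord (List.replicate n w).flatten = bitId) :
    sixHom (stElt w) ^ n = 1 := by
  rw [sixHom_pow, h, bitEnd_id]

theorem orderOf_six : orderOf (sixHom (stElt wordSix)) = 6 := by
  obtain ⟨⟨h2, h3, h6⟩, -⟩ := word_orders
  have d := orderOf_dvd_of_pow_eq_one (sixHom_pow_eq _ 6 h6)
  have e2 : ¬ orderOf (sixHom (stElt wordSix)) ∣ 2 := fun h =>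
    sixHom_pow_ne _ 2 (by simpa [List.replicate_succ] using h2) (orderOf_dvd_iff_pow_eq_one.1 h)
  have e3 : ¬ orderOf (sixHom (stElt wordSix)) ∣ 3 := fun h =>
    sixHom_pow_ne _ 3 (by simpa [List.replicate_succ] using h3) (orderOf_dvd_iff_pow_eq_one.1 h)
  have := Nat.mem_divisors.2 ⟨d, by norm_num⟩
  rw [show Nat.divisors 6 = {1, 2, 3, 6} by decide] at this
  simp only [Finset.mem_insert, Finset.mem_singleton] at this
  rcases this with h | h | h | h
  · exact absurd (by rw [h]; norm_num) e2
  · exact absurd (by rw [h]) e2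
  · exact absurd (by rw [h]) e3
  · exact h

theorem orderOf_ten : orderOf (sixHom (stElt wordTen)) = 10 := by
  obtain ⟨-, ⟨h2, h5, h10⟩, -⟩ := word_orders
  have d := orderOf_dvd_of_pow_eq_one (sixHom_pow_eq _ 10 h10)
  have e2 : ¬ orderOf (sixHom (stElt wordTen)) ∣ 2 := fun h =>
    sixHom_pow_ne _ 2 (by simpa [List.replicate_succ] using h2) (orderOf_dvd_iff_pow_eq_one.1 h)
  have e5 : ¬ orderOf (sixHom (stElt wordTen)) ∣ 5 := fun h =>
    sixHom_pow_ne _ 5 h5 (orderOf_dvd_iff_pow_eq_one.1 h)
  have := Nat.mem_divisors.2 ⟨d, by norm_num⟩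
  rw [show Nat.divisors 10 = {1, 2, 5, 10} by decide] at this
  simp only [Finset.mem_insert, Finset.mem_singleton] at this
  rcases this with h | h | h | h
  · exact absurd (by rw [h]; norm_num) e2
  · exact absurd (by rw [h]) e2
  · exact absurd (by rw [h]) e5
  · exact h

theorem fix_word (W : List (ℕ × Quad))
    (hfix : ∀ a < 64, ∀ b < 64, bitApply (sixWord W) (a + 64 * b) = a + 64 * b → a = 0 ∧ b = 0)
    (v : Bit12) (hv : sixHom (stElt W) v = v) : v = 0 := by
  refine bit12_ext ?_
  rw [sixHom_stElt] at hv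
  have e := congrArg (fun a : Bit12 => a.code.val) hv
  simp only [bitEnd_code (sixWord_bounded W)] at e
  have hlt := v.code.isLt
  have h := hfix (v.code.val % 64) (Nat.mod_lt _ (by norm_num)) (v.code.val / 64) (by omega)
    (by rw [Nat.mod_add_div]; exact e)
  show v.code.val = 0
  omega

/-- Elements of a prime order dividing the group order once, one of which has fixed-point-free image
of that order, all act without fixed points. -/
theorem fpf_of_sylow {L V : Type*} [Group L] [Finite L] [AddCommGroup V] (act : L →* AddMonoid.End V)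
    {r m : ℕ} [Fact r.Prime] (hcard : Nat.card L = r * m) (hm : ¬ r ∣ m) (x : L) (hx : act x ^ r = 1)
    (hfpf : ∀ v : V, act x v = v → v = 0) (g : L) (hg : orderOf g = r) (v : V) (hv : act g v = v)
    (hne : v ≠ 0) : False := by
  have hr : r.Prime := Fact.out
  have hord : orderOf (act x) = r := orderOf_eq_prime hx fun h => hne (hfpf v (by rw [h]; rfl))
  have hox : r ∣ orderOf x := hord ▸ orderOf_map_dvd act x
  set j := orderOf x / r with hj
  have hyo : orderOf (x ^ j) = r := orderOf_pow_orderOf_div (orderOf_pos x).ne' hox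
  have hjr : ¬ r ∣ j := by
    intro h
    have h2 : r * r ∣ Nat.card L := by
      refine dvd_trans ?_ (orderOf_dvd_natCard x)
      rw [← Nat.mul_div_cancel' hox]
      exact Nat.mul_dvd_mul_left r h
    rw [hcard] at h2
    exact hm (Nat.dvd_of_mul_dvd_mul_left hr.pos h2)
  obtain ⟨k, hk⟩ : ∃ k : ℕ, act x = act (x ^ j) ^ k := by
    obtain ⟨k, -, hk⟩ := Nat.exists_mul_mod_eq_one_of_coprime
      (((Nat.Prime.coprime_iff_not_dvd hr).2 hjr).symm) hr.one_lt
    refine ⟨k, ?_⟩
    rw [map_pow, ← pow_mul, ← pow_mod_orderOf (act x) (j * k), hord, hk, pow_one]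
  have hsyl : ∀ y : L, orderOf y = r → ∃ P : Sylow r L, (P : Subgroup L) = Subgroup.zpowers y := by
    intro y hy
    have hc : Nat.card (Subgroup.zpowers y) = r ^ (Nat.card L).factorization r := by
      rw [Nat.card_zpowers, hy, hcard,
        Nat.factorization_mul hr.ne_zero (fun h => hm (by rw [h]; exact dvd_zero r)),
        Finsupp.add_apply, Nat.Prime.factorization_self hr, Nat.factorization_eq_zero_of_not_dvd hm,
        add_zero, pow_one]
    exact ⟨Sylow.ofCard _ hc, rfl⟩
  generalize hz : x ^ j = z at hyo hk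
  obtain ⟨P, hP⟩ := hsyl g hg
  obtain ⟨Q, hQ⟩ := hsyl z hyo
  obtain ⟨y, hy⟩ := MulAction.exists_smul_eq L P Q
  have hmem : y⁻¹ * z * y ∈ Subgroup.zpowers g := by
    have h : z ∈ ((y • P : Sylow r L) : Subgroup L) := by
      rw [hy, hQ]; exact Subgroup.mem_zpowers _
    rw [Sylow.coe_subgroup_smul, Subgroup.mem_pointwise_smul_iff_inv_smul_mem, hP] at h
    simpa using h
  have hmul : ∀ (a b : L) (w : V), act (a * b) w = act a (act b w) := fun a b w => by rw [map_mul]; rfl
  have hone : ∀ w : V, act 1 w = w := fun w => by rw [map_one]; rfl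
  let S : Subgroup L :=
    { carrier := {a | act a v = v}
      one_mem' := hone v
      mul_mem' := fun {a b} ha hb => by
        show act (a * b) v = v
        rw [hmul, hb, ha]
      inv_mem' := fun {a} ha => by
        show act a⁻¹ v = v
        conv_lhs => rw [← ha]
        rw [← hmul, inv_mul_cancel, hone] }
  have hS : act (y⁻¹ * z * y) v = v := (Subgroup.zpowers_le.2 (show g ∈ S from hv)) hmem
  have hfixed : act z (act y v) = act y v := by
    calc act z (act y v) = act (y * (y⁻¹ * z * y)) v := by rw [← hmul]; group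
      _ = act y v := by rw [hmul, hS]
  have hall : ∀ i : ℕ, (act z ^ i) (act y v) = act y v := by
    intro i
    induction i with
    | zero => rfl
    | succ i ih =>
      rw [pow_succ]
      show (act z ^ i) (act z (act y v)) = _
      rw [hfixed, ih]
  have h0 := hfpf (act y v) (by rw [hk]; exact hall k)
  apply hne
  rw [← hone v, ← inv_mul_cancel y, hmul, h0, map_zero]

instance : Nontrivial Bit12 := ⟨⟨bit12 1, 0, fun h => by
  have := congrArg (fun a : Bit12 => a.code.val) h
  simp [bit12_code] at this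
  exact absurd this (by decide)⟩⟩

/-- Unbounded groups with the prime graph of `L`. -/
theorem exists_unbounded {L : Type*} [Group L] [Finite L]
    (act : L →* AddMonoid.End Bit12) (hgen : ∀ w : List (ℕ × Quad), ∃ s, act s = bitEnd (sixWord w))
    (hcard : Nat.card L = 251596800) (N : ℕ) :
    ∃ (H : Type) (_ : Group H) (_ : Finite H), N < Nat.card H ∧ PrimeGraph.SamePrimeGraph L H := by
  haveI : Fact (Nat.Prime 2) := ⟨Nat.prime_two⟩
  haveI : Fact (Nat.Prime 7) := ⟨by norm_num⟩
  haveI : Fact (Nat.Prime 13) := ⟨by norm_num⟩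
  obtain ⟨-, -, h7, h13⟩ := word_orders
  refine PrimeGraph.exists_large_module (act) 2 two_nsmul_bit12
    (by rw [hcard]; norm_num) ?_ N
  intro g v hv hfix r hr hr2 hg
  have hel : ∀ w : List (ℕ × Quad), ∃ s, act s = sixHom (stElt w) := fun w => by
    rw [sixHom_stElt]; exact hgen w
  have hex : ∀ (n : ℕ) (w : List (ℕ × Quad)), orderOf (sixHom (stElt w)) = n → ∃ s : L, orderOf s = n := by
    intro n w hn
    obtain ⟨x, hx⟩ := hel w
    have hd : n ∣ orderOf x := by
      rw [← hn, ← hx]
      exact orderOf_map_dvd act x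
    exact ⟨_, orderOf_pow_orderOf_div (orderOf_pos x).ne' hd⟩
  have hd : r ∣ 2 ^ 12 * (3 ^ 3 * (5 ^ 2 * (7 * 13))) := by
    rw [show (2 ^ 12 * (3 ^ 3 * (5 ^ 2 * (7 * 13))) : ℕ) = 251596800 by norm_num, ← hcard, ← hg]
    exact orderOf_dvd_natCard g
  rcases hr.dvd_mul.1 hd with h | h
  · exact absurd ((Nat.prime_dvd_prime_iff_eq hr Nat.prime_two).1 (hr.dvd_of_dvd_pow h)) hr2
  rcases hr.dvd_mul.1 h with h | h
  · obtain rfl := (Nat.prime_dvd_prime_iff_eq hr Nat.prime_three).1 (hr.dvd_of_dvd_pow h)
    exact hex 6 _ orderOf_six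
  rcases hr.dvd_mul.1 h with h | h
  · obtain rfl := (Nat.prime_dvd_prime_iff_eq hr (by norm_num)).1 (hr.dvd_of_dvd_pow h)
    exact hex 10 _ orderOf_ten
  exfalso
  rcases hr.dvd_mul.1 h with h | h
  · obtain rfl := (Nat.prime_dvd_prime_iff_eq hr (by norm_num)).1 h
    obtain ⟨x, hx⟩ := hel wordSeven
    refine fpf_of_sylow act (r := 7) (m := 35942400) hcard (by norm_num) x ?_ ?_ g hg v hfix hv
    · rw [hx]; exact sixHom_pow_eq _ 7 h7
    · intro w hw
      exact fix_word _ seven_fix w (by rwa [hx] at hw)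
  · obtain rfl := (Nat.prime_dvd_prime_iff_eq hr (by norm_num)).1 h
    obtain ⟨x, hx⟩ := hel wordThirteen
    refine fpf_of_sylow act (r := 13) (m := 19353600) hcard (by norm_num) x ?_ ?_ g hg v hfix hv
    · rw [hx]; exact sixHom_pow_eq _ 13 h13
    · intro w hw
      exact fix_word _ thirteen_fix w (by rwa [hx] at hw)

end Cfsg.Agent.Lib.G2Natural
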