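import Mathlib
import Cfsg.Prelude.Def_ChevG2
import Cfsg.Prelude.Def_Steinberg
import Cfsg.Agent.Lib.Golay.PSL34
import Cfsg.Agent.Lib.G2Natural.BitLin

/-!
The six-dimensional representation of the Steinberg group of type G2 over the field with four
elements, on bit strings of length twelve.
-/

set_option autoImplicit false

namespace Cfsg.Agent.Lib.G2Natural

open Cfsg.Agent.Lib.Golay (Quad)

/-- The element with a number. -/
def qd (n : ℕ) : Quad := ⟨Fin.ofNat 4 n⟩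

/-- The images of the unit strings under the root elements. -/
def sixTable : List (List (List ℕ)) :=
  [ [[1, 2, 4, 8, 16, 32, 64, 128, 256, 512, 1024, 2048], [1, 2, 20, 40, 16, 32, 64, 128, 256, 512, 1280, 2560], [1, 2, 36, 56, 16, 32, 64, 128, 256, 512, 1536, 2816], [1, 2, 52, 24, 16, 32, 64, 128, 256, 512, 1792, 2304]],
    [[1, 2, 4, 8, 16, 32, 64, 128, 256, 512, 1024, 2048], [17, 34, 4, 8, 16, 32, 64, 128, 256, 512, 1088, 2176], [33, 50, 4, 8, 16, 32, 64, 128, 256, 512, 1152, 2240], [49, 18, 4, 8, 16, 32, 64, 128, 256, 512, 1216, 2112]],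
    [[1, 2, 4, 8, 16, 32, 64, 128, 256, 512, 1024, 2048], [257, 514, 68, 136, 16, 32, 64, 128, 256, 512, 1040, 2080], [513, 770, 132, 200, 16, 32, 64, 128, 256, 512, 1072, 2064], [769, 258, 196, 72, 16, 32, 64, 128, 256, 512, 1056, 2096]],
    [[1, 2, 4, 8, 16, 32, 64, 128, 256, 512, 1024, 2048], [1, 2, 260, 520, 16, 32, 80, 160, 256, 512, 1025, 2050], [1, 2, 772, 264, 16, 32, 96, 176, 256, 512, 1026, 2051], [1, 2, 516, 776, 16, 32, 112, 144, 256, 512, 1027, 2049]],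
    [[1, 2, 4, 8, 16, 32, 64, 128, 256, 512, 1024, 2048], [65, 130, 4, 8, 16, 32, 64, 128, 272, 544, 1028, 2056], [193, 66, 4, 8, 16, 32, 64, 128, 288, 560, 1032, 2060], [129, 194, 4, 8, 16, 32, 64, 128, 304, 528, 1036, 2052]],
    [[1, 2, 4, 8, 16, 32, 64, 128, 256, 512, 1024, 2048], [1, 2, 5, 10, 16, 32, 320, 640, 256, 512, 1024, 2048], [1, 2, 6, 11, 16, 32, 576, 896, 256, 512, 1024, 2048], [1, 2, 7, 9, 16, 32, 832, 384, 256, 512, 1024, 2048]],
    [[1, 2, 4, 8, 16, 32, 64, 128, 256, 512, 1024, 2048], [5, 10, 4, 8, 16, 32, 64, 128, 320, 640, 1024, 2048], [9, 14, 4, 8, 16, 32, 64, 128, 384, 704, 1024, 2048], [13, 6, 4, 8, 16, 32, 64, 128, 448, 576, 1024, 2048]],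
    [[1, 2, 4, 8, 16, 32, 64, 128, 256, 512, 1024, 2048], [1, 2, 1028, 2056, 272, 544, 65, 130, 256, 512, 1024, 2048], [1, 2, 2052, 3080, 528, 800, 67, 129, 256, 512, 1024, 2048], [1, 2, 3076, 1032, 784, 288, 66, 131, 256, 512, 1024, 2048]],
    [[1, 2, 4, 8, 16, 32, 64, 128, 256, 512, 1024, 2048], [1025, 2050, 4, 8, 80, 160, 64, 128, 260, 520, 1024, 2048], [2049, 3074, 4, 8, 144, 224, 64, 128, 268, 516, 1024, 2048], [3073, 1026, 4, 8, 208, 96, 64, 128, 264, 524, 1024, 2048]],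
    [[1, 2, 4, 8, 16, 32, 64, 128, 256, 512, 1024, 2048], [1, 2, 4, 8, 1040, 2080, 68, 136, 257, 514, 1024, 2048], [1, 2, 4, 8, 3088, 1056, 72, 140, 258, 515, 1024, 2048], [1, 2, 4, 8, 2064, 3104, 76, 132, 259, 513, 1024, 2048]],
    [[1, 2, 4, 8, 16, 32, 64, 128, 256, 512, 1024, 2048], [1, 2, 4, 8, 17, 34, 1088, 2176, 256, 512, 1024, 2048], [1, 2, 4, 8, 18, 35, 2112, 3200, 256, 512, 1024, 2048], [1, 2, 4, 8, 19, 33, 3136, 1152, 256, 512, 1024, 2048]],
    [[1, 2, 4, 8, 16, 32, 64, 128, 256, 512, 1024, 2048], [1, 2, 4, 8, 20, 40, 64, 128, 1280, 2560, 1024, 2048], [1, 2, 4, 8, 24, 44, 64, 128, 2304, 3584, 1024, 2048], [1, 2, 4, 8, 28, 36, 64, 128, 3328, 1536, 1024, 2048]] ]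

/-- The root elements on bit strings. -/
def sixX (r : ℕ) (t : Quad) : List ℕ := (sixTable.getD r []).getD t.num.val bitId

/-- The image of a word. -/
def sixWord : List (ℕ × Quad) → List ℕ
  | [] => bitId
  | p :: w => bitComp (sixX p.1 p.2) (sixWord w)

set_option maxRecDepth 20000 in
theorem six_bounded : ∀ r < 12, ∀ t : Quad, ∀ x ∈ sixX r t, x < 4096 := by decide +kernel

set_option maxRecDepth 20000 in
theorem six_relA : ∀ r < 12, ∀ t₁ t₂ : Quad,
    sixWord [(r, t₁), (r, t₂)] = sixWord [(r, t₁ + t₂)] ∧ sixWord [(r, t₁), (r, t₁)] = bitId := by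
  decide +kernel

set_option maxRecDepth 20000 in
theorem six_relB_fin : ∀ r s : Fin 12, s.val = r.val ∨ s.val = Cfsg.Lie.chevG2.neg r.val ∨ ∀ t u : Quad,
    sixWord [(s.val, u), (r.val, t), (s.val, u), (r.val, t)] =
      sixWord (Cfsg.Lie.chevG2.commWord Quad r.val s.val t u) := by
  decide +kernel

theorem six_relB (r : ℕ) (hr : r < 12) (s : ℕ) (hs : s < 12) (h1 : s ≠ r)
    (h2 : s ≠ Cfsg.Lie.chevG2.neg r) (t u : Quad) :
    sixWord [(s, u), (r, t), (s, u), (r, t)] = sixWord (Cfsg.Lie.chevG2.commWord Quad r s t u) :=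
  (((six_relB_fin ⟨r, hr⟩ ⟨s, hs⟩).resolve_left h1).resolve_left h2) t u

set_option maxRecDepth 20000 in
theorem six_relC : ∀ r < 12, ∀ t₁ t₂ : Quad, t₁ ≠ 0 → t₂ ≠ 0 →
    sixWord (Cfsg.Lie.chevG2.hWord r t₁ ++ Cfsg.Lie.chevG2.hWord r t₂) =
      sixWord (Cfsg.Lie.chevG2.hWord r (t₁ * t₂)) := by
  decide +kernel

/-- A word of order 6. -/
def wordSix : List (ℕ × Quad) := [(4, qd 1), (5, qd 1), (6, qd 1)]

/-- A word of order 7. -/
def wordSeven : List (ℕ × Quad) := [(4, qd 1), (5, qd 1), (7, qd 1), (6, qd 1)]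

/-- A word of order 10. -/
def wordTen : List (ℕ × Quad) := [(4, qd 1), (5, qd 1), (6, qd 2)]

/-- A word of order 13. -/
def wordThirteen : List (ℕ × Quad) := [(4, qd 1), (5, qd 2), (7, qd 2), (6, qd 2)]

set_option maxRecDepth 20000 in
theorem seven_fix : ∀ a < 64, ∀ b < 64, bitApply (sixWord wordSeven) (a + 64 * b) = a + 64 * b →
    a = 0 ∧ b = 0 := by
  decide +kernel

set_option maxRecDepth 20000 in
theorem thirteen_fix : ∀ a < 64, ∀ b < 64, bitApply (sixWord wordThirteen) (a + 64 * b) = a + 64 * b →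
    a = 0 ∧ b = 0 := by
  decide +kernel

end Cfsg.Agent.Lib.G2Natural
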